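import Cfsg.Agent.CosetCert.Simple
import Cfsg.Agent.CosetCert.SuzChain1.Main
import Cfsg.Agent.CosetCert.SuzChain2.Main
import Cfsg.Agent.CosetCert.SuzChain3.Main
import Cfsg.Agent.CosetCert.SuzCollapse.Main
import Cfsg.Agent.CosetCert.SuzG24.Main
import Cfsg.Agent.CosetCert.SuzOrder.Level0
import Cfsg.Agent.CosetCert.SuzOrder.Level1
import Cfsg.Agent.CosetCert.SuzOrder.Level2
import Cfsg.Agent.CosetCert.SuzOrder.Level3

/-! Generated: order and simplicity of the presented group Suz. -/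

namespace Cfsg.Agent.CosetCert.SuzOrder

theorem rels_ok : ∀ l ∈ coxWords Cfsg.Agent.CosetCert.SuzG24.genList Cfsg.Spor.Suz.edges Cfsg.Spor.Suz.extra,
    PresentedGroup.mk (Cfsg.Spor.coxRelators Cfsg.Spor.Suz.edges ∪ {r | r ∈ Cfsg.Spor.Suz.extra}) (FreeGroup.mk l) = 1 :=
  Cfsg.Agent.CosetCert.SuzG24.spells.rels_one

theorem card_bound : Finite Cfsg.Spor.Suz ∧ Nat.card Cfsg.Spor.Suz ≤ 448345497600 := by
  have h4 := letterSub_nil_card (Cfsg.Spor.coxRelators Cfsg.Spor.Suz.edges ∪ {r | r ∈ Cfsg.Spor.Suz.extra})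
  have h3 := letterSub_card_le Cfsg.Agent.CosetCert.SuzChain3.ren (List.finRange 4) Cfsg.Agent.CosetCert.SuzChain3.subLetters
    [] rfl List.mem_finRange
    (fun l hl => rels_ok _ (by
      have h : (Cfsg.Agent.CosetCert.SuzChain3.relWords.all fun l => decide (l.map (fun a => (Cfsg.Agent.CosetCert.SuzChain3.ren a.1, a.2)) ∈
          coxWords Cfsg.Agent.CosetCert.SuzG24.genList Cfsg.Spor.Suz.edges Cfsg.Spor.Suz.extra)) = true := by decide +kernel
      exact of_decide_eq_true (List.all_eq_true.1 h l hl)))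
    Cfsg.Agent.CosetCert.SuzChain3.index_bound h4
  have h2 := letterSub_card_le Cfsg.Agent.CosetCert.SuzChain2.ren (List.finRange 5) Cfsg.Agent.CosetCert.SuzChain2.subLetters
    [Cfsg.Spor.Suz.Gen.a, Cfsg.Spor.Suz.Gen.b, Cfsg.Spor.Suz.Gen.c, Cfsg.Spor.Suz.Gen.d] rfl List.mem_finRange
    (fun l hl => rels_ok _ (by
      have h : (Cfsg.Agent.CosetCert.SuzChain2.relWords.all fun l => decide (l.map (fun a => (Cfsg.Agent.CosetCert.SuzChain2.ren a.1, a.2)) ∈
          coxWords Cfsg.Agent.CosetCert.SuzG24.genList Cfsg.Spor.Suz.edges Cfsg.Spor.Suz.extra)) = true := by decide +kernel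
      exact of_decide_eq_true (List.all_eq_true.1 h l hl)))
    Cfsg.Agent.CosetCert.SuzChain2.index_bound h3
  have h1 := letterSub_card_le Cfsg.Agent.CosetCert.SuzChain1.ren (List.finRange 6) Cfsg.Agent.CosetCert.SuzChain1.subLetters
    [Cfsg.Spor.Suz.Gen.a, Cfsg.Spor.Suz.Gen.b, Cfsg.Spor.Suz.Gen.c, Cfsg.Spor.Suz.Gen.d, Cfsg.Spor.Suz.Gen.e] rfl List.mem_finRange
    (fun l hl => rels_ok _ (by
      have h : (Cfsg.Agent.CosetCert.SuzChain1.relWords.all fun l => decide (l.map (fun a => (Cfsg.Agent.CosetCert.SuzChain1.ren a.1, a.2)) ∈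
          coxWords Cfsg.Agent.CosetCert.SuzG24.genList Cfsg.Spor.Suz.edges Cfsg.Spor.Suz.extra)) = true := by decide +kernel
      exact of_decide_eq_true (List.all_eq_true.1 h l hl)))
    Cfsg.Agent.CosetCert.SuzChain1.index_bound h2
  obtain ⟨hf, hc⟩ := card_le_top [Cfsg.Spor.Suz.Gen.a, Cfsg.Spor.Suz.Gen.b, Cfsg.Spor.Suz.Gen.c, Cfsg.Spor.Suz.Gen.d, Cfsg.Spor.Suz.Gen.e, Cfsg.Spor.Suz.Gen.f] rfl ⟨(Data.index_eq Cfsg.Agent.CosetCert.SuzG24.valid Cfsg.Agent.CosetCert.SuzG24.spells).trans_ne (by decide +kernel), (Data.index_eq Cfsg.Agent.CosetCert.SuzG24.valid Cfsg.Agent.CosetCert.SuzG24.spells).le⟩ h1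
  exact ⟨hf, hc.trans (by decide +kernel)⟩

theorem close_normal : ∀ M : Subgroup Cfsg.Spor.Suz, M.Normal →
    PresentedGroup.mk (Cfsg.Spor.coxRelators Cfsg.Spor.Suz.edges ∪ {r | r ∈ Cfsg.Spor.Suz.extra}) (FreeGroup.mk [(Cfsg.Spor.Suz.Gen.c, true), (Cfsg.Spor.Suz.Gen.b, true), (Cfsg.Spor.Suz.Gen.e, true), (Cfsg.Spor.Suz.Gen.d, true), (Cfsg.Spor.Suz.Gen.g, true), (Cfsg.Spor.Suz.Gen.f, true)]) ∈ M → M = ⊤ := by
  intro M hM hz
  have hcheck : (Cfsg.Agent.CosetCert.SuzCollapse.relWords.all fun l => decide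
      ((l.map fun a => (Cfsg.Agent.CosetCert.SuzCollapse.ren a.1, a.2)) ∈
        [(Cfsg.Spor.Suz.Gen.c, true), (Cfsg.Spor.Suz.Gen.b, true), (Cfsg.Spor.Suz.Gen.e, true), (Cfsg.Spor.Suz.Gen.d, true), (Cfsg.Spor.Suz.Gen.g, true), (Cfsg.Spor.Suz.Gen.f, true)] :: coxWords Cfsg.Agent.CosetCert.SuzG24.genList Cfsg.Spor.Suz.edges Cfsg.Spor.Suz.extra)) = true := by
    decide +kernel
  refine Data.normal_eq_top_of_mem Cfsg.Agent.CosetCert.SuzCollapse.log_valid Cfsg.Agent.CosetCert.SuzCollapse.spells rfl rfl Cfsg.Agent.CosetCert.SuzCollapse.ren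
    (fun z => ?_) _ (fun l hl => ?_) M hM hz
  · cases z <;> decide +kernel
  · rcases List.mem_cons.1 (of_decide_eq_true (List.all_eq_true.1 hcheck l hl)) with h | h
    · exact Or.inr h
    · exact Or.inl (rels_ok _ h)

noncomputable def suborbitList : List Data.Orb :=
  [⟨Cfsg.Agent.CosetCert.SuzG24.orbSet0, 47, get48 Cfsg.Agent.CosetCert.SuzG24.orbStore0⟩, ⟨Cfsg.Agent.CosetCert.SuzG24.orbSet1, 1, get48 Cfsg.Agent.CosetCert.SuzG24.orbStore1⟩]

theorem suborbits : Data.Suborbits Cfsg.Agent.CosetCert.SuzG24.data suborbitList where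
  ok := by
    simp only [suborbitList, List.forall_mem_cons, List.not_mem_nil, false_imp_iff, implies_true,
      and_true]
    exact ⟨⟨Cfsg.Agent.CosetCert.SuzG24.orb0_root, Cfsg.Agent.CosetCert.SuzG24.orb0_ok⟩, ⟨Cfsg.Agent.CosetCert.SuzG24.orb1_root, Cfsg.Agent.CosetCert.SuzG24.orb1_ok⟩⟩
  cover := by
    intro c hc
    have h : allFrom (fun c => Nat.beq c 0 || suborbitList.any fun o => o.set.testBit c) 0 1782 = true := by
      decide +kernel
    rcases Bool.or_eq_true_iff.1 ((allFrom_iff _ _ _).1 h c (Nat.zero_le _) (by rw [Nat.zero_add]; exact hc)) with h | h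
    · exact Or.inl (Nat.eq_of_beq_eq_true h)
    · exact Or.inr (List.any_eq_true.1 h)
  arith := by
    have h : ((Data.unions suborbitList).all fun u => decide
        (Data.count u 1782 ∣ 1782 → Data.count u 1782 = 1 ∨ Data.count u 1782 = 1782)) = true := by
      decide +kernel
    exact fun u hu => of_decide_eq_true (List.all_eq_true.1 h u hu)

noncomputable def levels : List Data.Level := [level0, level1, level2, level3]

theorem levels_ok : Cfsg.Agent.CosetCert.SuzG24.data.LevelsOK [] levels :=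
  ⟨⟨by decide +kernel, gens0_ok, pts0_ok⟩, ⟨by decide +kernel, gens1_ok, pts1_ok⟩, ⟨by decide +kernel, gens2_ok, pts2_ok⟩, ⟨by decide +kernel, gens3_ok, pts3_ok⟩, trivial⟩

/-- The word whose normal closure is everything. -/
def closeWord : List (Cfsg.Spor.Suz.Gen × Bool) := [(.c, true), (.b, true), (.e, true), (.d, true), (.g, true), (.f, true)]

theorem order_and_simple : IsSimpleGroup Cfsg.Spor.Suz ∧ Nat.card Cfsg.Spor.Suz = 448345497600 :=
  Data.isSimpleGroup_of_cert Cfsg.Agent.CosetCert.SuzG24.valid Cfsg.Agent.CosetCert.SuzG24.spells (N := 448345497600) card_bound.1 card_bound.2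
    levels levels_ok (by decide +kernel) suborbitList suborbits 11 1 (by norm_num)
    (by decide +kernel) (by decide +kernel) (by decide +kernel) closeWord 11
    (by decide +kernel)
    (fun c hc => Nat.eq_of_beq_eq_true ((allFrom_iff
      (fun c => Nat.beq (Cfsg.Agent.CosetCert.SuzG24.data.fwd (((List.replicate 11 closeWord).flatten).map
        (Data.code Cfsg.Agent.CosetCert.SuzG24.data.iv Cfsg.Agent.CosetCert.SuzG24.enc)) c) c) 0 1782).1 (by decide +kernel) c (Nat.zero_le _)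
      (by rw [Nat.zero_add]; exact hc)))
    close_normal

end Cfsg.Agent.CosetCert.SuzOrder
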